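import Groth.Prelude.Def_DEt2
import Mathlib.AlgebraicGeometry.Morphisms.Immersion
import Mathlib.AlgebraicGeometry.IdealSheaf.Subscheme

/-!
Compactifications: the scheme theoretic image of an immersion into a proper scheme over the base.
-/

set_option autoImplicit false
open CategoryTheory CategoryTheory.Limits AlgebraicGeometry
universe u

namespace Groth.Agent.Lib.DEtCompact.Basic

variable {X Y : Scheme.{u}} {f : X ⟶ Y}

/-- An immersion into a proper `Y`-scheme gives a compactification mapping to it. -/
theorem exists_of_immersion [CompactSpace ↥X] [QuasiSeparatedSpace ↥Y] {P : Scheme.{u}}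
    (π : P ⟶ Y) [IsProper π] (j : X ⟶ P) [IsImmersion j] (hfac : j ≫ π = f) :
    ∃ (c : DEt.Compactification f) (p : c.Xbar ⟶ P),
      IsClosedImmersion p ∧ c.j ≫ p = j ∧ p ≫ π = c.fbar := by
  have : QuasiSeparatedSpace ↥P := quasiSeparatedSpace_of_quasiSeparated π
  have : QuasiCompact j := inferInstance
  exact ⟨⟨j.image, j.toImage, j.imageι ≫ π, inferInstance, inferInstance,
    by rw [← Category.assoc, j.toImage_imageι, hfac]⟩, j.imageι, inferInstance,
    j.toImage_imageι, rfl⟩

end Groth.Agent.Lib.DEtCompact.Basic
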